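import Mathlib.Algebra.Homology.DerivedCategory.Ext.EnoughInjectives
import Mathlib.Algebra.Homology.DerivedCategory.SingleTriangle
import Mathlib.CategoryTheory.Abelian.Injective.Dimension
import Groth.Agent.H16Derived.DTrunc

/-!
# Morphisms into objects of finite injective dimension vanish across a gap
-/

set_option autoImplicit false

universe w v u

open CategoryTheory CategoryTheory.Limits CategoryTheory.Pretriangulated DerivedCategory DerivedCategory.TStructure

namespace Groth.Agent.H02CA.GapVanish

variable {A : Type u} [Category.{v} A] [Abelian A] [HasDerivedCategory.{w} A] [EnoughInjectives A]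

omit [EnoughInjectives A] in
theorem hom_injective_eq_zero (I : A) [Injective I] {K : DerivedCategory A} {m s : ℤ} [K.IsGE m]
    (h : -s < m) (φ : K ⟶ ((singleFunctor A 0).obj I)⟦s⟧) : φ = 0 := by
  obtain ⟨K', _, ⟨e⟩⟩ := K.exists_iso_Q_obj_of_isGE m
  let i := ((singleFunctors A).shiftIso s (-s) 0 (by lia)).app I
  let j := (singleFunctorIsoCompQ A (-s)).app I
  have := to_singleFunctor_obj_eq_zero_of_injective (K := K') (i := -s) (I := I)
    (e.inv ≫ φ ≫ i.hom ≫ j.hom) m h
  rw [← cancel_epi e.inv, ← cancel_mono (i.hom ≫ j.hom)]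
  simpa using this

theorem hom_eq_zero_of_injDim : ∀ (n : ℕ) (G : A), HasInjectiveDimensionLT G (n + 1) →
    ∀ {K : DerivedCategory A} {m s : ℤ} [K.IsGE m], (n : ℤ) - s < m →
      ∀ φ : K ⟶ ((singleFunctor A 0).obj G)⟦s⟧, φ = 0
  | 0, G, hG, K, m, s, _, h, φ => by
    haveI : Injective G := injective_iff_hasInjectiveDimensionLT_one.2 hG
    exact hom_injective_eq_zero G (by simpa using h) φ
  | n + 1, G, hG, K, m, s, _, h, φ => by
    let S := ShortComplex.mk (Injective.ι G) (cokernel.π (Injective.ι G)) (cokernel.condition _)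
    have hS : S.ShortExact :=
      ShortComplex.ShortExact.mk' (ShortComplex.exact_of_g_is_cokernel _ (cokernelIsCokernel _)) inferInstance
        inferInstance
    haveI : Injective S.X₂ := inferInstanceAs (Injective (Injective.under G))
    have hQ : HasInjectiveDimensionLT S.X₃ (n + 1) := (hS.hasInjectiveDimensionLT_X₃_iff n inferInstance).2 hG
    let T := (Triangle.shiftFunctor (DerivedCategory A) s).obj hS.singleTriangle
    have hT : T ∈ distTriang _ := Triangle.shift_distinguished _ hS.singleTriangle_distinguished s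
    have h1 : φ ≫ T.mor₁ = 0 := hom_injective_eq_zero S.X₂ (m := m) (by omega) _
    obtain ⟨g, hg⟩ := Triangle.coyoneda_exact₂ T.invRotate (inv_rot_of_distTriang T hT) φ h1
    let e := (shiftFunctorAdd' (DerivedCategory A) s (-1) (s - 1) (by lia)).symm.app ((singleFunctor A 0).obj S.X₃)
    have hg0 : g ≫ e.hom = 0 := hom_eq_zero_of_injDim n S.X₃ hQ (m := m) (by omega) _
    have : g = 0 := (cancel_mono e.hom).1 (hg0.trans zero_comp.symm)
    rw [hg, this]
    exact zero_comp

theorem hom_single_eq_zero (n : ℕ) {G : A} (hG : HasInjectiveDimensionLT G (n + 1)) {K : DerivedCategory A}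
    {m q : ℤ} [K.IsGE m] (h : (n : ℤ) + q < m) (φ : K ⟶ (singleFunctor A q).obj G) : φ = 0 := by
  let i := ((singleFunctors A).shiftIso (-q) q 0 (by lia)).app G
  exact (cancel_mono i.inv).1 ((hom_eq_zero_of_injDim n G hG (m := m) (by omega) _).trans zero_comp.symm)

variable (n : ℕ)

omit [EnoughInjectives A] in
theorem injDim_truncGE (L : DerivedCategory A) (j : ℤ) (h : HasInjectiveDimensionLT ((homologyFunctor A j).obj L) (n + 1)) :
    HasInjectiveDimensionLT ((homologyFunctor A j).obj ((t.truncGE j).obj L)) (n + 1) := by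
  haveI := H16Derived.DTrunc.isIso_homology_truncGEπ L j j le_rfl
  exact @hasInjectiveDimensionLT_of_iso _ _ _ _ _ (asIso ((homologyFunctor A j).map ((t.truncGEπ j).app L))) (n + 1) h

omit [EnoughInjectives A] in
theorem injDim_single {L : DerivedCategory A} {Y : A} {j : ℤ} (e : L ≅ (singleFunctor A j).obj Y)
    (h : HasInjectiveDimensionLT ((homologyFunctor A j).obj L) (n + 1)) : HasInjectiveDimensionLT Y (n + 1) :=
  @hasInjectiveDimensionLT_of_iso _ _ _ _ _
    ((homologyFunctor A j).mapIso e ≪≫ (singleFunctorCompHomologyFunctorIso A j).app Y) (n + 1) h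

omit [EnoughInjectives A] in
theorem injDim_truncLT (L : DerivedCategory A) (j : ℤ) (h : ∀ i, HasInjectiveDimensionLT ((homologyFunctor A i).obj L) (n + 1))
    (i : ℤ) : HasInjectiveDimensionLT ((homologyFunctor A i).obj ((t.truncLT j).obj L)) (n + 1) := by
  rcases lt_or_ge i j with hi | hi
  · haveI := H16Derived.DTrunc.isIso_homology_truncLTι L j i hi
    exact @hasInjectiveDimensionLT_of_iso _ _ _ _ _ (asIso ((homologyFunctor A i).map ((t.truncLTι j).app L))).symm (n + 1) (h i)
  · have : DerivedCategory.IsLE ((t.truncLT j).obj L) (j - 1) := inferInstanceAs (t.IsLE _ (j - 1))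
    haveI := (DerivedCategory.isZero_of_isLE ((t.truncLT j).obj L) (j - 1) i (by omega)).hasInjectiveDimensionLT_zero
    exact hasInjectiveDimensionLT_of_ge _ 0 (n + 1) (by omega)

theorem hom_eq_zero_aux {K : DerivedCategory A} {m : ℤ} [K.IsGE m] : ∀ (k : ℕ) (L : DerivedCategory A) (b : ℤ),
    L.IsGE b → L.IsLE (b + k) → (∀ i, HasInjectiveDimensionLT ((homologyFunctor A i).obj L) (n + 1)) →
      (n : ℤ) + b + k < m → ∀ φ : K ⟶ L, φ = 0 := by
  intro k
  induction k with
  | zero =>
    intro L b hGE hLE hL h φ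
    haveI := hGE
    haveI : L.IsLE b := by simpa using hLE
    obtain ⟨Y, ⟨e⟩⟩ := L.exists_iso_singleFunctor_obj_of_isGE_of_isLE b
    have hY : HasInjectiveDimensionLT Y (n + 1) := injDim_single n e (hL b)
    exact (cancel_mono e.hom).1 ((hom_single_eq_zero n hY (m := m) (by simp at h; omega) _).trans zero_comp.symm)
  | succ k ih =>
    intro L b hGE hLE hL h φ
    haveI := hGE; haveI := hLE
    have hT := DerivedCategory.TStructure.t.triangleLTGE_distinguished (b + k + 1) L
    set T := (DerivedCategory.TStructure.t.triangleLTGE (b + k + 1)).obj L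
    haveI : T.obj₁.IsLE (b + k) := DerivedCategory.TStructure.t.isLE_truncLT_obj L (b + k + 1) (b + k) (by omega)
    haveI : T.obj₁.IsGE b := H16Derived.DTrunc.isGE_truncLT L (b + k + 1) b
    haveI : T.obj₃.IsGE (b + k + 1) := inferInstanceAs (t.IsGE ((t.truncGE (b + k + 1)).obj L) (b + k + 1))
    haveI : T.obj₃.IsLE (b + k + 1) := by
      haveI : L.IsLE (b + k + 1) := by convert hLE using 1; push_cast; ring
      exact H16Derived.DTrunc.isLE_truncGE L (b + k + 1) (b + k + 1)
    -- the top piece
    have h3 : φ ≫ T.mor₂ = 0 := by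
      obtain ⟨Y, ⟨e⟩⟩ := T.obj₃.exists_iso_singleFunctor_obj_of_isGE_of_isLE (b + k + 1)
      have hY : HasInjectiveDimensionLT Y (n + 1) := injDim_single n e (injDim_truncGE n L _ (hL _))
      exact (cancel_mono e.hom).1 ((hom_single_eq_zero n hY (m := m) (by push_cast at h; omega) _).trans zero_comp.symm)
    obtain ⟨g, hg⟩ := Triangle.coyoneda_exact₂ T hT φ h3
    have hg0 : g = 0 := ih T.obj₁ b inferInstance inferInstance (injDim_truncLT n L _ hL)
      (by push_cast at h; omega) g
    rw [hg, hg0]
    exact zero_comp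

/-- Morphisms from `≥ m` into a bounded object `≤ c` with cohomology of injective dimension `≤ n`
vanish when `n + c < m`. -/
theorem hom_eq_zero {K L : DerivedCategory A} (m b c : ℤ) [K.IsGE m] [L.IsGE b] [L.IsLE c]
    (hL : ∀ i, HasInjectiveDimensionLT ((homologyFunctor A i).obj L) (n + 1)) (h : (n : ℤ) + c < m)
    (φ : K ⟶ L) : φ = 0 := by
  rcases le_or_gt b c with hbc | hbc
  · haveI : L.IsLE (b + ((c - b).toNat : ℤ)) := by
      rw [show b + ((c - b).toNat : ℤ) = c by omega]; infer_instance
    exact hom_eq_zero_aux (m := m) n (c - b).toNat L b inferInstance inferInstance hL (by omega) φ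
  · haveI : L.IsLE b := DerivedCategory.TStructure.t.isLE_of_le L c b hbc.le
    have : IsZero L := by
      rw [IsZero.iff_id_eq_zero]
      exact DerivedCategory.TStructure.t.zero (𝟙 L) c b hbc
    exact this.eq_of_tgt _ _

end Groth.Agent.H02CA.GapVanish
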