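import Groth.Agent.H02CA.GapVanish.Abstract
import Groth.Agent.H10Inj.Embed
import Groth.Agent.H10Inj.QCoh
import Groth.Agent.H05EGA4.Regular
import Groth.Agent.H05EGA4.DimFibre
import Groth.Prelude.Def_DCoh2
import Groth.Prelude.Def_Models

/-!
# Injective dimension of quasi-coherent modules on regular schemes; vanishing across gaps
-/

set_option autoImplicit false
set_option linter.style.haveILetI false

universe u

open CategoryTheory CategoryTheory.Limits AlgebraicGeometry

attribute [local instance] HasDerivedCategory.standard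

namespace Groth.Agent.H02CA.GapVanish

open CategoryTheory.Abelian in
theorem injDim_module {R : Type u} [CommRing R] [IsRegularLocalRing R] {d : ℕ} (hd : ringKrullDim R ≤ d)
    (M : ModuleCat.{u} R) : HasInjectiveDimensionLT M (d + 1) := by
  obtain ⟨e, he, hk⟩ := H05EGA4.exists_pd_residueField R
  have hed : e ≤ d := by
    have h : (e : WithBot ℕ∞) ≤ d := he ▸ hd
    exact_mod_cast h
  rw [hasInjectiveDimensionLT_iff]
  intro i hi Y x
  haveI : HasProjectiveDimensionLT Y (e + 1) :=
    H05EGA4.hasProjectiveDimensionLT_of_cyclic e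
      (fun I => H05EGA4.hasProjectiveDimensionLT_of_residueField e hk _) Y
  exact x.eq_zero_of_hasProjectiveDimensionLT (e + 1) (by omega)

variable {X : Scheme.{u}} [IsLocallyNoetherian X]

theorem injDim_of_stalks : ∀ (n : ℕ) (G : X.Modules), Coh.IsQCoh G →
    (∀ x : X, HasInjectiveDimensionLT ((DerSch.stalkFunctor X x).obj G) (n + 1)) →
      HasInjectiveDimensionLT G (n + 1)
  | 0, G, hG, h => by
    haveI : G.IsQuasicoherent := hG
    refine injective_iff_hasInjectiveDimensionLT_one.1 (H10Inj.injective_of_stalks G fun x => ?_)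
    haveI : Injective ((DerSch.stalkFunctor X x).obj G) := injective_iff_hasInjectiveDimensionLT_one.2 (h x)
    exact Module.injective_module_of_injective_object (X.presheaf.stalk x) _ (inj := this)
  | n + 1, G, hG, h => by
    haveI : G.IsQuasicoherent := hG
    obtain ⟨E, g, hg, hE, hEq⟩ := H10Inj.exists_mono_injective G
    haveI := hg
    haveI := hE
    let S := ShortComplex.mk g (cokernel.π g) (cokernel.condition _)
    have hS : S.ShortExact :=
      ShortComplex.ShortExact.mk' (ShortComplex.exact_of_g_is_cokernel _ (cokernelIsCokernel _)) inferInstance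
        inferInstance
    have hQ : Coh.IsQCoh S.X₃ := @H10Coh.isQuasicoherent_cokernel _ _ _ g hG hEq
    refine (hS.hasInjectiveDimensionLT_X₃_iff n hE).1 (injDim_of_stalks n _ hQ fun x => ?_)
    have hx := hS.map_of_exact (DerSch.stalkFunctor X x)
    have hEx : Injective ((DerSch.stalkFunctor X x).obj E) :=
      Module.injective_object_of_injective_module (X.presheaf.stalk x) ((DerSch.stalkFunctor X x).obj E) (inj :=
        H10Inj.injective_stalk E x)
    exact (hx.hasInjectiveDimensionLT_X₃_iff n hEx).2 (h x)

theorem injDim_of_regular (hreg : Models.IsRegularScheme X) {d : ℕ} (hd : topologicalKrullDim X = d)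
    (G : X.Modules) (hG : Coh.IsQCoh G) : HasInjectiveDimensionLT G (d + 1) :=
  injDim_of_stalks d G hG fun x =>
    haveI := hreg x
    injDim_module ((H05EGA4.DimFibre.stalkDim_le_top x).trans hd.le) _

/-- Vanishing of morphisms across a gap of length `d`. -/
theorem hom_eq_zero_of_regular (hreg : Models.IsRegularScheme X) {d : ℕ} (hd : topologicalKrullDim X = d)
    [EnoughInjectives X.Modules] {K L : DCoh.D X} (hL : DCoh.IsCohD L) (m b c : ℤ) [DerivedCategory.IsGE K m]
    [DerivedCategory.IsGE L b] [DerivedCategory.IsLE L c] (h : (d : ℤ) + c < m) (φ : K ⟶ L) : φ = 0 :=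
  hom_eq_zero d m b c (fun i => injDim_of_regular hreg hd _ (hL i).1) h φ

end Groth.Agent.H02CA.GapVanish
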